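import Cfsg.Agent.LyG2.Packed
import Cfsg.Agent.LyG2.G14.Data
import Cfsg.Agent.LyG2.Pres
import Cfsg.Agent.Chevalley.GoodG2
import Cfsg.Agent.Chevalley.Element

/-! The matrices satisfy the relators and are connected with the root elements. -/

set_option autoImplicit false
set_option maxRecDepth 100000

namespace CfsgLib.LyG2.G14

open CfsgLib.CosetEnum Cfsg.Lie

/-- The words that are checked. -/
def checked : List (List ℕ) :=
  rwords ++
    ((List.range 8).flatMap fun i =>
      [[2 * i, 2 * i + 1], [2 * i + 1, 2 * i], (2 * i + 1) :: (rootW.getD i []).map fun r => 16 + r]) ++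
    ((List.range 12).flatMap fun r =>
      [List.replicate 5 (16 + r), genW.getD r [] ++ List.replicate 4 (16 + r)])

theorem tabs_good : (List.range 28).all (fun x => goodX 14 (tabs x)) = true := by decide +kernel

theorem one_ok : oneOk 14 = true := by decide +kernel

theorem checked_lt : checked.all (fun w => w.all fun x => Nat.blt x 28) = true := by decide +kernel

theorem rwords_lt : rwords.all (fun w => w.all fun x => Nat.blt x 16) = true := by decide +kernel

theorem rootW_lt : rootW.all (fun w => w.all fun r => Nat.blt r 12) = true := by decide +kernel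

theorem genW_lt : genW.all (fun w => w.all fun x => Nat.blt x 16) = true := by decide +kernel

theorem checked_ok : chkWords 14 tabs checked = true := by decide +kernel

instance fact_prime_five : Fact (Nat.Prime 5) := ⟨by decide⟩

theorem rtab_entries : ∀ (r : Fin 12) (p : Fin 14 × Fin 14),
    toX 14 (tabs (16 + r.val)) p.1 p.2 = Matrix.reindex finSumFinEquiv finSumFinEquiv
      (chevG2.xMat (ZMod 5) (r : Fin chevG2.nroots) 1) p.1 p.2 := by
  decide +kernel

end CfsgLib.LyG2.G14
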