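import Cfsg.Agent.LyG2.G14.Check
import Cfsg.Agent.LyG2.Cert.Bound
import Cfsg.Agent.S1042
import Cfsg.Agent.S1059
import Cfsg.Agent.ChevSimple.Instances

/-! The presented group on eight generators is `G₂(5)`. -/

set_option autoImplicit false

namespace CfsgLib.LyG2.G14

open CfsgLib.CosetEnum Cfsg.Lie CfsgLib.Chevalley
open scoped MatrixGroups

/-- The group `G₂(5)`. -/
abbrev G25 : Type := ↥(chevG2.group (ZMod 5))

/-- The matrices on fourteen coordinates. -/
abbrev M14 : Type := Matrix (Fin 14) (Fin 14) (ZMod 5)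

/-- The matrix of an element. -/
def mu (g : G25) : M14 :=
  Matrix.reindex finSumFinEquiv finSumFinEquiv
    ((g : GL chevG2.Idx (ZMod 5)) : Matrix chevG2.Idx chevG2.Idx (ZMod 5))

theorem mu_one : mu 1 = 1 := by
  show Matrix.submatrix (1 : Matrix chevG2.Idx chevG2.Idx (ZMod 5)) finSumFinEquiv.symm finSumFinEquiv.symm = 1
  exact Matrix.submatrix_one_equiv _

theorem mu_mul (g h : G25) : mu (g * h) = mu g * mu h :=
  (Matrix.submatrix_mul_equiv ((g : GL chevG2.Idx (ZMod 5)) : Matrix chevG2.Idx chevG2.Idx (ZMod 5))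
    ((h : GL chevG2.Idx (ZMod 5)) : Matrix chevG2.Idx chevG2.Idx (ZMod 5))
    finSumFinEquiv.symm finSumFinEquiv.symm finSumFinEquiv.symm).symm

theorem mu_injective : Function.Injective mu := fun g h e => by
  have := (Matrix.reindex finSumFinEquiv finSumFinEquiv).injective e
  exact Subtype.ext (Units.ext this)

theorem mu_prodw (f : ℕ → G25) (w : List ℕ) : mu (prodw f w) = (w.map fun x => mu (f x)).prod := by
  induction w with
  | nil => exact mu_one
  | cons x w ih => rw [prodw_cons, mu_mul, ih, List.map_cons, List.prod_cons]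

/-- A root. -/
def rootI (r : ℕ) : Root chevG2 := ⟨r % 12, Nat.mod_lt _ (by decide)⟩

/-- A root element with parameter one. -/
def root1 (r : ℕ) : G25 :=
  ⟨X good_chevG2 (rootI r) 1, X_mem_group good_chevG2 _ _⟩

theorem mu_root1 {r : ℕ} (hr : r < 12) : mu (root1 r) = toX 14 (tabs (16 + r)) := by
  ext i j
  refine Eq.trans ?_ (rtab_entries ⟨r, hr⟩ (i, j)).symm
  show Matrix.reindex finSumFinEquiv finSumFinEquiv (xR chevG2 (ZMod 5) (rootI r) 1) i j = _
  have e : xR chevG2 (ZMod 5) (rootI r) 1 = chevG2.xMat (ZMod 5) (rootI r) 1 := by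
    rw [← x_eq_xR good_chevG2, ChevalleyDatum.x, dif_pos (rootI r).isLt]
  rw [e, show rootI r = (⟨r, hr⟩ : Root chevG2) from Fin.ext (Nat.mod_eq_of_lt hr)]
  rfl

theorem word_one {w : List ℕ} (hm : w ∈ checked) : (w.map fun x => toX 14 (tabs x)).prod = 1 := by
  refine chk_word (by norm_num) tabs one_ok (fun x hx => ?_) checked_ok hm
  have h := List.all_eq_true.1 (List.all_eq_true.1 checked_lt w hm) x hx
  exact List.all_eq_true.1 tabs_good x (List.mem_range.2 (Nat.le_of_ble_eq_true h))

/-- The image of a generator. -/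
def toG (i : ℕ) : G25 := prodw root1 (rootW.getD i [])

theorem rootW_mem {i r : ℕ} (h : r ∈ rootW.getD i []) : r < 12 := by
  by_cases hi : i < rootW.length
  · rw [List.getD_eq_getElem _ _ hi] at h
    exact Nat.le_of_ble_eq_true (List.all_eq_true.1 (List.all_eq_true.1 rootW_lt _ (List.getElem_mem hi)) r h)
  · rw [List.getD_eq_default _ _ (not_lt.1 hi)] at h
    exact absurd h List.not_mem_nil

theorem gen_mem {i : ℕ} (hi : i < 8) {w : List ℕ}
    (hw : w ∈ [[2 * i, 2 * i + 1], [2 * i + 1, 2 * i],
      (2 * i + 1) :: (rootW.getD i []).map fun r => 16 + r]) : w ∈ checked :=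
  List.mem_append_left _ (List.mem_append_right _ (List.mem_flatMap.2 ⟨i, List.mem_range.2 hi, hw⟩))

theorem mu_toG {i : ℕ} (hi : i < 8) : mu (toG i) = toX 14 (tabs (2 * i)) := by
  have h1 := word_one (gen_mem hi (w := [2 * i, 2 * i + 1]) (by simp))
  have h3 := word_one (gen_mem hi (w := (2 * i + 1) :: (rootW.getD i []).map fun r => 16 + r) (by simp))
  simp only [List.map_cons, List.map_nil, List.prod_cons, List.prod_nil, mul_one, List.map_map] at h1 h3
  rw [toG, mu_prodw, List.map_congr_left fun r hr => mu_root1 (rootW_mem hr)]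
  exact (left_inv_eq_right_inv h1 h3).symm

theorem mu_lv {x : ℕ} (hx : x < 16) : mu (lv toG x) = toX 14 (tabs x) := by
  rcases Nat.even_or_odd' x with ⟨i, rfl | rfl⟩
  · rw [lv_eq, if_pos (by omega), show 2 * i / 2 = i by omega, mu_toG (by omega)]
  · rw [lv_eq, if_neg (by omega), show (2 * i + 1) / 2 = i by omega]
    have h := congrArg mu (inv_mul_cancel (toG i))
    rw [mu_mul, mu_one, mu_toG (by omega)] at h
    have h1 := word_one (gen_mem (show i < 8 by omega) (w := [2 * i, 2 * i + 1]) (by simp))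
    simp only [List.map_cons, List.map_nil, List.prod_cons, List.prod_nil, mul_one] at h1
    exact left_inv_eq_right_inv h h1

theorem rels_ok : ∀ r ∈ relSet, FreeGroup.lift (fun i : Fin 8 => toG i.val) r = 1 := by
  rintro _ ⟨w, hw, rfl⟩
  have hm : w ∈ checked := List.mem_append_left _ (List.mem_append_left _ hw)
  have e : FreeGroup.lift (fun i : Fin 8 => toG i.val) (prodw fl w) =
      prodw (fun x => FreeGroup.lift (fun i : Fin 8 => toG i.val) (fl x)) w := by
    simp only [prodw, map_list_prod, List.map_map]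
    rfl
  refine mu_injective ?_
  rw [e, mu_prodw, mu_one, ← word_one hm]
  congr 1
  refine List.map_congr_left fun x hx => ?_
  have hx' : x < 16 := by
    have := List.all_eq_true.1 (List.all_eq_true.1 rwords_lt w hw) x hx
    exact Nat.le_of_ble_eq_true this
  rw [← mu_lv hx', fl, map_lv]
  simp only [FreeGroup.lift_apply_of, lv_eq, Fin.val_ofNat, show x / 2 % 8 = x / 2 by omega]

/-- The homomorphism to `G₂(5)`. -/
def hom : P →* G25 := PresentedGroup.toGroup rels_ok

theorem hom_pl {x : ℕ} (hx : x < 16) : hom (pl x) = lv toG x := by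
  rw [pl, map_lv]
  simp only [hom, PresentedGroup.toGroup.of, lv_eq, Fin.val_ofNat, show x / 2 % 8 = x / 2 by omega]

theorem root1_mem {r : ℕ} (hr : r < 12) : root1 r ∈ hom.range := by
  have hmem : ∀ w : List ℕ, w ∈ [List.replicate 5 (16 + r),
      genW.getD r [] ++ List.replicate 4 (16 + r)] → w ∈ checked := fun w hw =>
    List.mem_append_right _ (List.mem_flatMap.2 ⟨r, List.mem_range.2 hr, hw⟩)
  have h1 := word_one (hmem (List.replicate 5 (16 + r)) (by simp))
  have h2 := word_one (hmem (genW.getD r [] ++ List.replicate 4 (16 + r)) (by simp))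
  simp only [List.map_replicate, List.prod_replicate, List.map_append, List.prod_append] at h1 h2
  rw [pow_succ] at h1
  have hw : ∀ x ∈ genW.getD r [], x < 16 := by
    intro x hx
    have hl : r < genW.length := by rw [show genW.length = 12 from rfl]; exact hr
    rw [List.getD_eq_getElem _ _ hl] at hx
    exact Nat.le_of_ble_eq_true (List.all_eq_true.1 (List.all_eq_true.1 genW_lt _ (List.getElem_mem hl)) x hx)
  have e : root1 r = prodw (lv toG) (genW.getD r []) := by
    apply mu_injective
    rw [mu_root1 hr, mu_prodw, List.map_congr_left fun x hx => mu_lv (hw x hx)]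
    exact (left_inv_eq_right_inv h2 h1).symm
  rw [e]
  refine Subgroup.list_prod_mem _ fun z hz => ?_
  obtain ⟨x, hx, rfl⟩ := List.mem_map.1 hz
  exact ⟨pl x, hom_pl (hw x hx)⟩

/-- It is onto. -/
theorem hom_surjective : Function.Surjective hom := by
  rw [← MonoidHom.range_eq_top, eq_top_iff]
  intro g _
  suffices h : chevG2.group (ZMod 5) ≤ hom.range.map (chevG2.group (ZMod 5)).subtype by
    obtain ⟨g', hg', e⟩ := h g.2
    rwa [← (Subtype.ext e : g' = g)]
  refine (group_eq_closure good_chevG2).le.trans ((Subgroup.closure_le _).2 ?_)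
  rintro _ ⟨r, t, rfl⟩
  have hr : r.val < 12 := r.isLt
  refine ⟨root1 r.val ^ t.val, pow_mem (root1_mem hr) _, ?_⟩
  rw [map_pow, show ((chevG2.group (ZMod 5)).subtype (root1 r.val)) = X good_chevG2 r (1 : ZMod 5) by
    show X good_chevG2 (rootI r.val) 1 = _
    rw [show rootI r.val = r from Fin.ext (Nat.mod_eq_of_lt hr)],
    ← zpow_natCast, X_zpow, mul_one, Int.cast_natCast, ZMod.natCast_zmod_val]

theorem card_target : Nat.card G25 = 5859000000 := by
  rw [Cfsg.Agent.S1059.result (F := ZMod 5) (ZMod.card 5)]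
  norm_num

theorem isSimple : IsSimpleGroup G25 :=
  (ChevSimple.isSimple_of_mem (by simp)
    (ChevSimple.perfect_of_mem_small (by simp) ⟨2, by decide, by decide⟩)
    (Cfsg.Agent.S1042.result _ (by simp))).1

/-- The presented group is `G₂(5)`. -/
theorem nonempty_equiv : Nonempty (P ≃* G25) := by
  obtain ⟨hfin, hle⟩ := P_finite_and_card_le
  haveI := hfin
  refine ⟨MulEquiv.ofBijective hom
    ((Nat.bijective_iff_surjective_and_card _).2 ⟨hom_surjective, ?_⟩)⟩
  have := Nat.card_le_card_of_surjective _ hom_surjective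
  rw [card_target] at this ⊢
  omega

end CfsgLib.LyG2.G14
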